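import Mathlib
import Cfsg.Agent.Lib.Coprime.Basic
import Cfsg.Agent.Lib.Coprime.Sylow
import Cfsg.Agent.Lib.Coprime.Generation

/-!
# Fixed points in a solvable group generated by balanced pieces

A coprime abelian group `A` acts on the solvable group `X`. For each `D` in a family `𝓓` of subgroups of `A` we are
given an `A`-invariant `T D ≤ C_X(D)`, normalised by `C_X(D)`, with `C_{T D}(E) ≤ T D'` whenever `A / E` is cyclic
and `D' ≤ E`. If `X` is generated by the `T D`, then `C_X(E) ≤ T D` for all `D ≤ E`.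
-/

namespace Cfsg.Agent.Signalizer.GenFixed

open Subgroup (normalizer centralizer zpowers mem_normalizer_iff)
open Cfsg.Agent.Coprime
open scoped commutatorElement

universe u
variable {G : Type u} [Group G]

/-- The elements normalising `N` whose commutator with `n` is in `N`. -/
def modCent (N : Subgroup G) (n : G) : Subgroup G where
  carrier := {x | x ∈ normalizer (N : Set G) ∧ ⁅n, x⁆ ∈ N}
  one_mem' := ⟨one_mem _, by simp [commutatorElement_def]⟩
  mul_mem' := fun {x y} hx hy => ⟨mul_mem hx.1 hy.1, by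
    have h := mul_mem hx.2 ((mem_normalizer_iff.1 hx.1 _).1 hy.2)
    convert h using 1
    simp only [commutatorElement_def]; group⟩
  inv_mem' := fun {x} hx => ⟨inv_mem hx.1, by
    have h := (mem_normalizer_iff.1 (inv_mem hx.1) _).1 (inv_mem hx.2)
    convert h using 1
    simp only [commutatorElement_def]; group⟩

theorem mem_modCent {N : Subgroup G} {n x : G} :
    x ∈ modCent N n ↔ x ∈ normalizer (N : Set G) ∧ ⁅n, x⁆ ∈ N := Iff.rfl

theorem mem_modCent_comm {N : Subgroup G} {n x : G} (hn : n ∈ normalizer (N : Set G)) :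
    x ∈ modCent N n → n ∈ modCent N x := fun h => ⟨hn, by
  rw [← commutatorElement_inv]; exact inv_mem h.2⟩

/-- If `N` is normalised by `H`, `L` and contains the commutators of generators, it contains `⁅H, L⁆`. -/
theorem commutator_le_of_gen {ι κ : Type*} (N : Subgroup G) (H : ι → Subgroup G) (L : κ → Subgroup G)
    (hH : ∀ i, H i ≤ normalizer (N : Set G)) (hL : ∀ j, L j ≤ normalizer (N : Set G))
    (h : ∀ i j, ∀ x ∈ H i, ∀ y ∈ L j, ⁅x, y⁆ ∈ N) : ⁅⨆ i, H i, ⨆ j, L j⁆ ≤ N := by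
  refine Subgroup.commutator_le.2 fun x hx y hy => ?_
  have hy' : ∀ i, ∀ n ∈ H i, y ∈ modCent N n := fun i n hn =>
    (iSup_le (fun j z hz => (⟨hL j hz, h i j n hn z hz⟩ : z ∈ modCent N n)) : (⨆ j, L j) ≤ modCent N n) hy
  have hx' : x ∈ modCent N y :=
    (iSup_le (fun i n hn => mem_modCent_comm (hH i hn) (hy' i n hn)) : (⨆ i, H i) ≤ modCent N y) hx
  rw [← commutatorElement_inv]
  exact inv_mem hx'.2

theorem le_normalizer_commutator' {S H L : Subgroup G} (hH : S ≤ normalizer (H : Set G))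
    (hL : S ≤ normalizer (L : Set G)) : S ≤ normalizer ((⁅H, L⁆ : Subgroup G) : Set G) := fun s hs => by
  rw [Subgroup.mem_normalizer_iff_map_conj_eq, Subgroup.map_commutator,
    Subgroup.mem_normalizer_iff_map_conj_eq.mp (hH hs), Subgroup.mem_normalizer_iff_map_conj_eq.mp (hL hs)]

theorem le_normalizer_sup' {S H L : Subgroup G} (hH : S ≤ normalizer (H : Set G))
    (hL : S ≤ normalizer (L : Set G)) : S ≤ normalizer ((H ⊔ L : Subgroup G) : Set G) := fun s hs => by
  rw [Subgroup.mem_normalizer_iff_map_conj_eq, Subgroup.map_sup,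
    Subgroup.mem_normalizer_iff_map_conj_eq.mp (hH hs), Subgroup.mem_normalizer_iff_map_conj_eq.mp (hL hs)]

/-- The derived series of a subgroup, inside the ambient group. -/
def der (X : Subgroup G) : ℕ → Subgroup G
  | 0 => X
  | i + 1 => ⁅der X i, der X i⁆

theorem map_derivedSeries (X : Subgroup G) : ∀ i, (derivedSeries ↥X i).map X.subtype = der X i
  | 0 => by rw [derivedSeries_zero, ← MonoidHom.range_eq_map, X.range_subtype]; rfl
  | i + 1 => by rw [derivedSeries_succ, Subgroup.map_commutator, map_derivedSeries X i]; rfl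

theorem exists_der_eq_bot {X : Subgroup G} (hX : Group.IsSolvable X) : ∃ d, der X d = ⊥ := by
  obtain ⟨d, hd⟩ := (Group.isSolvable_def ↥X).1 hX
  exact ⟨d, by rw [← map_derivedSeries, hd, Subgroup.map_bot]⟩

theorem der_le (X : Subgroup G) : ∀ i, der X i ≤ X
  | 0 => le_rfl
  | i + 1 => (Subgroup.commutator_mono (der_le X i) (der_le X i)).trans
      (Subgroup.commutator_le.2 fun x hx y hy => by
        rw [commutatorElement_def]; exact mul_mem (mul_mem (mul_mem hx hy) (inv_mem hx)) (inv_mem hy))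

theorem le_normalizer_der {X S : Subgroup G} (hS : S ≤ normalizer (X : Set G)) :
    ∀ i, S ≤ normalizer (der X i : Set G)
  | 0 => hS
  | i + 1 => le_normalizer_commutator' (le_normalizer_der hS i) (le_normalizer_der hS i)

/-- The data: balanced pieces. -/
structure Pieces (A X : Subgroup G) where
  /-- The index family. -/
  𝓓 : Set (Subgroup G)
  /-- The pieces. -/
  T : Subgroup G → Subgroup G
  d_le : ∀ D ∈ 𝓓, D ≤ A
  le_X : ∀ D ∈ 𝓓, T D ≤ X
  inv : ∀ D ∈ 𝓓, A ≤ normalizer (T D : Set G)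
  norm : ∀ D ∈ 𝓓, X ⊓ centralizer (D : Set G) ≤ normalizer (T D : Set G)
  bal : ∀ D ∈ 𝓓, ∀ D' ∈ 𝓓, ∀ E ≤ A, (∃ a ∈ A, E ⊔ zpowers a = A) → D' ≤ E →
    T D ⊓ centralizer (E : Set G) ≤ T D'
  meet : ∀ E E' : Subgroup G, E ≤ A → (∃ a ∈ A, E ⊔ zpowers a = A) → E' ≤ A →
    (∃ a ∈ A, E' ⊔ zpowers a = A) → ∃ D ∈ 𝓓, D ≤ E ∧ D ≤ E'
  gen : X ≤ ⨆ D : 𝓓, T (D : Subgroup G)

variable {A X : Subgroup G}

/-- The subgroups with cyclic quotient in `A`. -/
def hyp (A : Subgroup G) : Set (Subgroup G) := {E | E ≤ A ∧ ∃ a ∈ A, E ⊔ zpowers a = A}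

namespace Pieces
variable (P : Pieces A X)

/-- The common value of `C_{T D}(E)`, `D ≤ E`. -/
def W (E : Subgroup G) : Subgroup G :=
  centralizer (E : Set G) ⊓ ⨅ D : {D : Subgroup G // D ∈ P.𝓓 ∧ D ≤ E}, P.T D

theorem le_W {D E : Subgroup G} (hD : D ∈ P.𝓓) (hE : E ∈ hyp A) : P.T D ⊓ centralizer (E : Set G) ≤ P.W E :=
  le_inf inf_le_right (le_iInf fun D' => P.bal D hD D' D'.2.1 E hE.1 hE.2 D'.2.2)

theorem W_le {D E : Subgroup G} (hD : D ∈ P.𝓓) (hDE : D ≤ E) : P.W E ≤ P.T D :=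
  inf_le_right.trans (iInf_le (fun D : {D : Subgroup G // D ∈ P.𝓓 ∧ D ≤ E} => P.T D) ⟨D, hD, hDE⟩)

theorem W_le_X {E : Subgroup G} (hE : E ∈ hyp A) : P.W E ≤ X := by
  obtain ⟨D, hD, hDE, -⟩ := P.meet E E hE.1 hE.2 hE.1 hE.2
  exact (P.W_le hD hDE).trans (P.le_X D hD)

/-- `C_Y(E) ≤ W E` for all `E`. -/
def Good (Y : Subgroup G) : Prop := ∀ E ∈ hyp A, Y ⊓ centralizer (E : Set G) ≤ P.W E

/-- `⟨W E ⊓ K⟩`. -/
def core (K : Subgroup G) : Subgroup G := ⨆ E : hyp A, P.W E ⊓ K

theorem core_le (K : Subgroup G) : P.core K ≤ K := iSup_le fun _ => inf_le_right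

variable [Finite G] [IsMulCommutative A]

theorem le_normalizer_W {E : Subgroup G} (hE : E ≤ A) : A ≤ normalizer (P.W E : Set G) := by
  refine le_normalizer_inf_of_le ?_ ?_
  · refine le_trans (fun x hx => Subgroup.mem_centralizer_iff.2 fun y hy => ?_) Subgroup.le_normalizer
    exact congrArg (fun z : A => (z : G)) (mul_comm' (⟨y, hE hy⟩ : A) ⟨x, hx⟩)
  · intro a ha
    rw [mem_normalizer_iff]
    intro x
    simp only [SetLike.mem_coe, Subgroup.mem_iInf]
    exact forall_congr' fun D => mem_normalizer_iff.1 (P.inv D D.2.1 ha) x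

variable (hAX : A ≤ normalizer (X : Set G)) (hcop : (Nat.card A).Coprime (Nat.card X))
include hcop

theorem inf_le_core {D K : Subgroup G} (hD : D ∈ P.𝓓) (hKA : A ≤ normalizer (K : Set G)) :
    P.T D ⊓ K ≤ P.core K :=
  le_of_forall_cyclic_quotient (le_normalizer_inf_of_le (P.inv D hD) hKA)
    (hcop.coprime_dvd_right (Subgroup.card_dvd_of_le (inf_le_left.trans (P.le_X D hD)))) fun E hE hcyc =>
    le_trans (le_inf ((inf_le_inf_right _ inf_le_left).trans (P.le_W hD ⟨hE, hcyc⟩)) (inf_le_left.trans inf_le_right))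
      (le_iSup (fun E : hyp A => P.W E ⊓ K) ⟨E, hE, hcyc⟩)

theorem eq_iSup_W : X = ⨆ E : hyp A, P.W E := by
  refine le_antisymm (P.gen.trans (iSup_le fun D => ?_)) (iSup_le fun E => P.W_le_X E.2)
  exact le_of_forall_cyclic_quotient (P.inv D D.2)
    (hcop.coprime_dvd_right (Subgroup.card_dvd_of_le (P.le_X D D.2))) fun E hE hcyc =>
    (P.le_W D.2 ⟨hE, hcyc⟩).trans (le_iSup (fun E : hyp A => P.W E) ⟨E, hE, hcyc⟩)

theorem core_normal {K : Subgroup G} (hKA : A ≤ normalizer (K : Set G)) (hKn : X ≤ normalizer (K : Set G)) :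
    X ≤ normalizer (P.core K : Set G) := by
  refine (P.eq_iSup_W hcop).le.trans ?_
  refine iSup_le fun E => ?_
  have key : ∀ x ∈ P.W E, ∀ y ∈ P.core K, x * y * x⁻¹ ∈ P.core K := by
    intro x hx y hy
    have : P.core K ≤ (P.core K).comap (MulAut.conj x).toMonoidHom := iSup_le fun E' z hz => by
      obtain ⟨D, hD, hDE, hDE'⟩ := P.meet E E' E.2.1 E.2.2 E'.2.1 E'.2.2
      show x * z * x⁻¹ ∈ P.core K
      exact P.inf_le_core hcop hD hKA (Subgroup.mem_inf.2 ⟨mul_mem (mul_mem (P.W_le hD hDE hx) (P.W_le hD hDE' (Subgroup.mem_inf.1 hz).1))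
        (inv_mem (P.W_le hD hDE hx)), (mem_normalizer_iff.1 (hKn (P.W_le_X E.2 hx)) z).1 (Subgroup.mem_inf.1 hz).2⟩)
    exact this hy
  intro x hx
  refine mem_normalizer_iff.2 fun y => ⟨key x hx y, fun h => ?_⟩
  simpa [mul_assoc] using key x⁻¹ (inv_mem hx) _ h

theorem core_inv (K : Subgroup G) (hKA : A ≤ normalizer (K : Set G)) : A ≤ normalizer (P.core K : Set G) :=
  fun a ha => by
    rw [Subgroup.mem_normalizer_iff_map_conj_eq, core, Subgroup.map_iSup]
    exact iSup_congr fun E => Subgroup.mem_normalizer_iff_map_conj_eq.mp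
      (le_normalizer_inf_of_le (P.le_normalizer_W E.2.1) hKA ha)

theorem commutator_le_core {K : Subgroup G} (hKA : A ≤ normalizer (K : Set G))
    (hKn : X ≤ normalizer (K : Set G)) (hKX : K ≤ X) : ⁅K, X⁆ ≤ P.core K := by
  have hgen : K ≤ ⨆ E : hyp A, K ⊓ centralizer ((E : Subgroup G) : Set G) :=
    le_of_forall_cyclic_quotient hKA (hcop.coprime_dvd_right (Subgroup.card_dvd_of_le hKX))
      fun E hE hcyc => le_iSup (fun E : hyp A => K ⊓ centralizer ((E : Subgroup G) : Set G)) ⟨E, hE, hcyc⟩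
  have hn := P.core_normal hcop hKA hKn
  refine (Subgroup.commutator_mono hgen (P.eq_iSup_W hcop).le).trans
    (commutator_le_of_gen _ _ _ (fun E => inf_le_left.trans (hKX.trans hn))
      (fun E => (P.W_le_X E.2).trans hn) fun E E' n hn' x hx => ?_)
  obtain ⟨D, hD, hDE, hDE'⟩ := P.meet E E' E.2.1 E.2.2 E'.2.1 E'.2.2
  have hxD := P.W_le hD hDE' hx
  refine P.inf_le_core hcop hD hKA (Subgroup.mem_inf.2 ⟨?_, ?_⟩)
  · rw [commutatorElement_def]
    exact mul_mem ((mem_normalizer_iff.1 (P.norm D hD ⟨hKX hn'.1,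
      Subgroup.centralizer_le hDE hn'.2⟩) x).1 hxD) (inv_mem hxD)
  · rw [commutatorElement_def, mul_assoc n x, mul_assoc n]
    exact mul_mem hn'.1 ((mem_normalizer_iff.1 (hKn (P.le_X D hD hxD)) _).1 (inv_mem hn'.1))

variable (hs : Group.IsSolvable X)
include hs

theorem core_good {N K : Subgroup G} (hN : P.Good N) (hNA : A ≤ normalizer (N : Set G))
    (hKA : A ≤ normalizer (K : Set G)) (hKX : K ≤ X)
    (hNK : N ≤ K) (hKK : ⁅P.core K, P.core K⁆ ≤ N) : N ≤ P.core K ∧ P.Good (P.core K) := by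
  have hNc : N ≤ P.core K :=
    le_of_forall_cyclic_quotient hNA (hcop.coprime_dvd_right (Subgroup.card_dvd_of_le (hNK.trans hKX)))
      fun E hE hcyc => le_trans (le_inf (hN E ⟨hE, hcyc⟩) (inf_le_left.trans hNK))
        (le_iSup (fun E : hyp A => P.W E ⊓ K) ⟨E, hE, hcyc⟩)
  let S : Set (Subgroup G) :=
    {Y | N ≤ Y ∧ Y ≤ P.core K ∧ A ≤ normalizer (Y : Set G) ∧ P.Good Y}
  obtain ⟨Y, hY, hmax⟩ := (Set.toFinite S).exists_maximal ⟨N, le_rfl, hNc, hNA, hN⟩
  obtain ⟨hNY, hYc, hYA, hYg⟩ := hY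
  suffices h : P.core K ≤ Y from ⟨hNc, le_antisymm hYc h ▸ hYg⟩
  refine iSup_le fun E' => le_trans le_sup_right (hmax (y := Y ⊔ (P.W E' ⊓ K)) ⟨hNY.trans le_sup_left,
    sup_le hYc (le_iSup (fun E : hyp A => P.W E ⊓ K) E'),
    le_normalizer_sup' hYA (le_normalizer_inf_of_le (P.le_normalizer_W E'.2.1) hKA), ?_⟩ le_sup_left)
  intro E hE x hx
  set Z := P.W E' ⊓ K with hZ
  have hZc : Z ≤ P.core K := le_iSup (fun E : hyp A => P.W E ⊓ K) E'
  have hZY : Z ≤ normalizer (Y : Set G) := fun z hz => by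
    refine Subgroup.mem_normalizer_iff.2 fun y => ?_
    have key : ∀ z ∈ Z, ∀ y ∈ Y, z * y * z⁻¹ ∈ Y := fun z hz y hy => by
      have h := hNY (hKK (Subgroup.commutator_mem_commutator (hZc hz) (hYc hy)))
      have h2 := mul_mem h hy
      rwa [commutatorElement_def, inv_mul_cancel_right] at h2
    exact ⟨key z hz y, fun h => by simpa [mul_assoc] using key z⁻¹ (inv_mem hz) _ h⟩
  obtain ⟨z, hz, y, hy, rfl⟩ := (mem_sup_iff_of_le_normalizer (H := Z) hZY).1 (sup_comm Y Z ▸ hx.1)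
  have hZX : Z ≤ X := inf_le_right.trans hKX
  obtain ⟨c, hc, hzc⟩ := exists_mem_inf_centralizer_leftCoset (A := E) (K := Z) (N := Z ⊓ Y) (k := z)
    (hE.1.trans (le_normalizer_inf_of_le (le_normalizer_inf_of_le (P.le_normalizer_W E'.2.1) hKA) hYA))
    inf_le_left
    ((hcop.coprime_dvd_left (Subgroup.card_dvd_of_le hE.1)).coprime_dvd_right (Subgroup.card_dvd_of_le hZX))
    (Or.inr (Coprime.isSolvable_of_le hZX hs)) hz fun e he => by
      have hey := (mem_normalizer_iff.1 (hYA (hE.1 he)) y⁻¹).1 (inv_mem hy)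
      have hez := (mem_normalizer_iff.1 (le_normalizer_inf_of_le (P.le_normalizer_W E'.2.1) hKA (hE.1 he)) z).1 hz
      refine Subgroup.mem_inf.2 ⟨?_, ?_⟩
      · rw [mul_assoc z⁻¹ e, mul_assoc z⁻¹]
        exact mul_mem (inv_mem hz) hez
      · have h1 := Subgroup.mem_centralizer_iff.1 hx.2 e he
        have h2 : z⁻¹ * e * z * e⁻¹ = y * (e * y⁻¹ * e⁻¹) :=
          calc z⁻¹ * e * z * e⁻¹ = z⁻¹ * (e * (z * y)) * y⁻¹ * e⁻¹ := by group
            _ = z⁻¹ * ((z * y) * e) * y⁻¹ * e⁻¹ := by rw [h1]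
            _ = y * (e * y⁻¹ * e⁻¹) := by group
        rw [h2]
        exact mul_mem hy hey
  obtain ⟨D, hD, hDE', -⟩ := P.meet E' E' E'.2.1 E'.2.2 E'.2.1 E'.2.2
  have hcW : c ∈ P.W E := P.le_W hD hE ⟨P.W_le hD hDE' hc.1.1, hc.2⟩
  have hrest : c⁻¹ * (z * y) ∈ Y ⊓ centralizer (E : Set G) := by
    refine Subgroup.mem_inf.2 ⟨?_, mul_mem (inv_mem (Subgroup.mem_inf.1 hc).2) (Subgroup.mem_inf.1 hx).2⟩
    rw [← mul_assoc]
    exact mul_mem (by simpa using inv_mem (Subgroup.mem_inf.1 hzc).2) hy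
  simpa using mul_mem hcW (hYg E hE hrest)

include hAX in
/-- The theorem. -/
theorem good_top : P.Good X := by
  let S : Set (Subgroup G) :=
    {N | N ≤ X ∧ A ≤ normalizer (N : Set G) ∧ X ≤ normalizer (N : Set G) ∧ P.Good N}
  obtain ⟨N, hN, hmax⟩ := (Set.toFinite S).exists_maximal
    ⟨⊥, bot_le, by rw [Subgroup.normalizer_eq_top]; exact le_top,
      by rw [Subgroup.normalizer_eq_top]; exact le_top, fun E _ => inf_le_left.trans bot_le⟩
  obtain ⟨hNX, hNA, hNn, hNg⟩ := hN
  have step : ∀ K : Subgroup G, A ≤ normalizer (K : Set G) → X ≤ normalizer (K : Set G) → K ≤ X → N ≤ K →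
      ⁅P.core K, P.core K⁆ ≤ N → P.core K = N := fun K hKA hKn hKX hNK hKK => by
    obtain ⟨h1, h2⟩ := P.core_good hcop hs hNg hNA hKA hKX hNK hKK
    exact le_antisymm (hmax ⟨(P.core_le K).trans hKX, P.core_inv hcop K hKA, P.core_normal hcop hKA hKn, h2⟩ h1) h1
  have step2 : ∀ K : Subgroup G, A ≤ normalizer (K : Set G) → X ≤ normalizer (K : Set G) → K ≤ X → N ≤ K →
      ⁅⁅K, K⁆ ⊔ N, X⁆ ≤ N → ⁅P.core K, P.core K⁆ ≤ N := by
    intro K hKA hKn hKX hNK hL
    set L := ⁅K, K⁆ ⊔ N with hLdef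
    have hLK : L ≤ K := sup_le (Subgroup.commutator_le.2 fun x hx y hy => by
      rw [commutatorElement_def]; exact mul_mem (mul_mem (mul_mem hx hy) (inv_mem hx)) (inv_mem hy)) hNK
    have hLA : A ≤ normalizer (L : Set G) := le_normalizer_sup' (le_normalizer_commutator' hKA hKA) hNA
    have hLn : X ≤ normalizer (L : Set G) := le_normalizer_sup' (le_normalizer_commutator' hKn hKn) hNn
    have hL0 : P.core L = N := step L hLA hLn (hLK.trans hKX) le_sup_right
      ((Subgroup.commutator_mono (P.core_le L) ((P.core_le L).trans (hLK.trans hKX))).trans hL)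
    refine commutator_le_of_gen N _ _ (fun E => inf_le_right.trans (hKX.trans hNn))
      (fun E => inf_le_right.trans (hKX.trans hNn)) fun E E' x hx y hy => ?_
    obtain ⟨D, hD, hDE, hDE'⟩ := P.meet E E' E.2.1 E.2.2 E'.2.1 E'.2.2
    rw [← hL0]
    refine P.inf_le_core hcop hD hLA (Subgroup.mem_inf.2
      ⟨?_, Subgroup.mem_sup_left (Subgroup.commutator_mem_commutator hx.2 hy.2)⟩)
    have h1 := P.W_le hD hDE hx.1
    have h2 := P.W_le hD hDE' hy.1
    rw [commutatorElement_def]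
    exact mul_mem (mul_mem (mul_mem h1 h2) (inv_mem h1)) (inv_mem h2)
  obtain ⟨d, hd⟩ := exists_der_eq_bot hs
  have main : ∀ i, ⁅der X i ⊔ N, X⁆ ≤ N := by
    have h : ∀ j i, d ≤ i + j → ⁅der X i ⊔ N, X⁆ ≤ N := by
      intro j
      induction j with
      | zero =>
        intro i hi
        have hbot : ∀ k, der X (d + k) = ⊥ := fun k => by
          induction k with
          | zero => exact hd
          | succ k ih => show ⁅der X (d + k), der X (d + k)⁆ = ⊥; rw [ih, Subgroup.commutator_bot_left]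
        obtain ⟨k, rfl⟩ := Nat.exists_eq_add_of_le (Nat.add_zero i ▸ hi)
        rw [hbot k, bot_sup_eq]
        exact Subgroup.commutator_le.2 fun n hn x hx => by
          rw [commutatorElement_def, mul_assoc n x, mul_assoc n]
          exact mul_mem hn ((mem_normalizer_iff.1 (hNn hx) _).1 (inv_mem hn))
      | succ j ih =>
        intro i hi
        have hprev := ih (i + 1) (by omega)
        set K := der X i ⊔ N with hK
        have hKX : K ≤ X := sup_le (der_le X i) hNX
        have hKA : A ≤ normalizer (K : Set G) := le_normalizer_sup' (le_normalizer_der hAX i) hNA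
        have hKn : X ≤ normalizer (K : Set G) :=
          le_normalizer_sup' (le_normalizer_der Subgroup.le_normalizer i) hNn
        have hKK : ⁅K, K⁆ ≤ der X (i + 1) ⊔ N := by
          have hDn : X ≤ normalizer ((der X (i + 1) ⊔ N : Subgroup G) : Set G) :=
            le_normalizer_sup' (le_normalizer_der Subgroup.le_normalizer _) hNn
          let H : Fin 2 → Subgroup G := ![der X i, N]
          have hsup : ∀ i, H i ≤ K := fun t => by fin_cases t <;> simp [H, hK]
          have hKle : K ≤ ⨆ t, H t := sup_le (le_iSup H 0) (le_iSup H 1)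
          refine (Subgroup.commutator_mono hKle hKle).trans (commutator_le_of_gen _ H H
            (fun t => (hsup t).trans (hKX.trans hDn)) (fun t => (hsup t).trans (hKX.trans hDn))
            fun s t x hx y hy => ?_)
          have hNl : ∀ x ∈ N, ∀ y ∈ X, ⁅x, y⁆ ∈ N := fun n hn x hx => by
            rw [commutatorElement_def, mul_assoc n x, mul_assoc n]
            exact mul_mem hn ((mem_normalizer_iff.1 (hNn hx) _).1 (inv_mem hn))
          have hxK := hsup s hx
          have hyK := hsup t hy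
          fin_cases s
          · fin_cases t
            · exact Subgroup.mem_sup_left (Subgroup.commutator_mem_commutator hx hy)
            · rw [← commutatorElement_inv]
              exact Subgroup.mem_sup_right (inv_mem (hNl _ hy _ (hKX hxK)))
          · exact Subgroup.mem_sup_right (hNl _ hx _ (hKX hyK))
        have hL : ⁅⁅K, K⁆ ⊔ N, X⁆ ≤ N :=
          (Subgroup.commutator_mono (sup_le hKK le_sup_right) le_rfl).trans hprev
        have := step K hKA hKn hKX le_sup_right (step2 K hKA hKn hKX le_sup_right hL)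
        exact this ▸ P.commutator_le_core hcop hKA hKn hKX
    exact fun i => h d i (by omega)
  have hXX : ⁅X, X⁆ ≤ N := le_trans (Subgroup.commutator_mono (show X ≤ der X 0 ⊔ N from le_sup_left) le_rfl) (main 0)
  have hXc : P.core X = X :=
    le_antisymm (P.core_le X) ((P.eq_iSup_W hcop).le.trans (iSup_mono fun E => le_inf le_rfl (P.W_le_X E.2)))
  have := step X hAX Subgroup.le_normalizer le_rfl hNX
    (by rw [hXc]; exact hXX)
  rw [hXc] at this
  exact this ▸ hNg

include hAX in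
/-- `C_X(E) ≤ T D` for `D ≤ E`. -/
theorem inf_centralizer_le {D E : Subgroup G} (hD : D ∈ P.𝓓) (hE : E ≤ A) (hcyc : ∃ a ∈ A, E ⊔ zpowers a = A)
    (hDE : D ≤ E) : X ⊓ centralizer (E : Set G) ≤ P.T D :=
  (P.good_top hAX hcop hs E ⟨hE, hcyc⟩).trans (P.W_le hD hDE)

end Pieces

end Cfsg.Agent.Signalizer.GenFixed
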