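import Cfsg.Prelude.Def_Balance
import Cfsg.Agent.Lib.Coprime.Generation
import Cfsg.Agent.Lib.PCore.Constrained
import Cfsg.Agent.Lib.Balance.CharP
import Cfsg.Agent.S1327

/-!
# Equivariant signalizer functors on a connected group of rank at least three

Consequences of the solvable signalizer functor theorem, which enters as the hypothesis `HasSFT p G`
(the content of the statement S0217 for the group `G`).
-/

set_option autoImplicit false
set_option linter.style.haveILetI false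

namespace Cfsg.Agent.Signalizer

open Subgroup Cfsg

variable {G : Type*} [Group G]

/-- The conclusion of the solvable signalizer functor theorem in `G` for the prime `p`. -/
def HasSFT (p : ℕ) (G : Type*) [Group G] : Prop :=
  ∀ A : Subgroup G, (∀ a ∈ A, ∀ b ∈ A, a * b = b * a) → (∀ a ∈ A, a ^ p = 1) →
    p ^ 3 ≤ Nat.card A → ∀ θ : G → Subgroup G,
    (∀ a ∈ A, a ≠ 1 → θ a ≤ centralizer {a}) → (∀ a ∈ A, a ≠ 1 → ¬ p ∣ Nat.card (θ a)) →
    (∀ a ∈ A, a ≠ 1 → ∀ b ∈ A, ∀ x ∈ θ a, b * x * b⁻¹ ∈ θ a) →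
    (∀ a ∈ A, a ≠ 1 → Group.IsSolvable (θ a)) →
    (∀ a ∈ A, a ≠ 1 → ∀ b ∈ A, b ≠ 1 → θ a ⊓ centralizer {b} ≤ θ b) →
    ¬ p ∣ Nat.card ↥(⨆ a : {a : G // a ∈ A ∧ a ≠ 1}, θ a) ∧
      ∀ a ∈ A, a ≠ 1 →
        (⨆ b : {a : G // a ∈ A ∧ a ≠ 1}, θ b) ⊓ centralizer {a} = θ a

/-- The elements of order `p` whose centraliser has `p`-rank at least three. -/
def IsDeep (p : ℕ) (a : G) : Prop :=
  orderOf a = p ∧ ¬ PRankLE p 2 ↥(centralizer ({a} : Set G))

theorem not_pRankLE_of_le {p : ℕ} [Finite G] {H K : Subgroup G} (hHK : H ≤ K)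
    (h : ¬ PRankLE p 2 ↥H) : ¬ PRankLE p 2 ↥K := by
  intro hK
  refine h fun A hA hA1 => ?_
  have := hK (A.map (inclusion hHK))
    ⟨⟨by
      rintro ⟨_, x, hx, rfl⟩ ⟨_, y, hy, rfl⟩
      exact Subtype.ext (by
        simpa [← map_mul] using congrArg (inclusion hHK)
          (congrArg Subtype.val (hA.is_comm.comm (⟨x, hx⟩ : A) ⟨y, hy⟩)))⟩⟩
    (by
      rintro _ ⟨x, hx, rfl⟩
      rw [← map_pow, hA1 x hx, map_one])
  rwa [card_map_of_injective (inclusion_injective hHK)] at this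

theorem exists_rank_three {p : ℕ} {H : Subgroup G} (h : ¬ PRankLE p 2 ↥H) [Finite G]
    [Fact p.Prime] : ∃ B : Subgroup G, B ≤ H ∧ IsElementaryAbelian p B ∧ p ^ 3 ≤ Nat.card B := by
  simp only [PRankLE, not_forall, not_le] at h
  obtain ⟨A, hA, hA1, hlt⟩ := h
  refine ⟨A.map H.subtype, map_subtype_le _, ⟨⟨⟨?_⟩⟩, ?_⟩, ?_⟩
  · rintro ⟨_, x, hx, rfl⟩ ⟨_, y, hy, rfl⟩
    exact Subtype.ext (by
      simpa using congrArg (fun z : A => ((z : H) : G)) (hA.is_comm.comm (⟨x, hx⟩ : A) ⟨y, hy⟩))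
  · rintro _ ⟨x, hx, rfl⟩
    show ((x ^ p : ↥H) : G) = 1
    rw [hA1 x hx, OneMemClass.coe_one]
  · rw [card_map_of_injective H.subtype_injective]
    have hpg : IsPGroup p A := fun a => ⟨1, Subtype.ext (by simpa using hA1 a a.2)⟩
    obtain ⟨n, hn⟩ := IsPGroup.iff_card.mp hpg
    rw [hn] at hlt ⊢
    exact Nat.pow_le_pow_right (Fact.out : p.Prime).pos
      ((Nat.pow_lt_pow_iff_right (Fact.out : p.Prime).one_lt).mp hlt)

theorem sup_elementary {p : ℕ} {A B : Subgroup G} (hA : IsElementaryAbelian p A)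
    (hB : IsElementaryAbelian p B) (hAB : ∀ a ∈ A, ∀ b ∈ B, a * b = b * a) :
    IsElementaryAbelian p (A ⊔ B) := by
  have hc : ∀ x ∈ A ⊔ B, ∀ y ∈ A ⊔ B, x * y = y * x := by
    have hle : A ⊔ B ≤ centralizer ((A ⊔ B : Subgroup G) : Set G) := by
      refine sup_le (le_centralizer_iff.mp (sup_le ?_ ?_)) (le_centralizer_iff.mp (sup_le ?_ ?_))
      · exact fun x hx => mem_centralizer_iff.mpr fun y hy =>
          congrArg Subtype.val (hA.1.is_comm.comm (⟨y, hy⟩ : A) ⟨x, hx⟩)
      · exact fun x hx => mem_centralizer_iff.mpr fun y hy => hAB y hy x hx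
      · exact fun x hx => mem_centralizer_iff.mpr fun y hy => (hAB x hx y hy).symm
      · exact fun x hx => mem_centralizer_iff.mpr fun y hy =>
          congrArg Subtype.val (hB.1.is_comm.comm (⟨y, hy⟩ : B) ⟨x, hx⟩)
    exact fun x hx y hy => (mem_centralizer_iff.mp (hle hy) x hx)
  refine ⟨⟨⟨fun x y => Subtype.ext (hc x x.2 y y.2)⟩⟩, fun x hx => ?_⟩
  let K : Subgroup G :=
    { carrier := {z | z ∈ A ⊔ B ∧ z ^ p = 1}
      mul_mem' := fun {u v} hu hv => ⟨mul_mem hu.1 hv.1, by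
        rw [(show Commute u v from hc u hu.1 v hv.1).mul_pow, hu.2, hv.2, mul_one]⟩
      one_mem' := ⟨one_mem _, one_pow p⟩
      inv_mem' := fun {u} hu => ⟨inv_mem hu.1, by rw [inv_pow, hu.2, inv_one]⟩ }
  exact ((sup_le (fun a ha => ⟨mem_sup_left ha, hA.2 a ha⟩)
    fun b hb => ⟨mem_sup_right hb, hB.2 b hb⟩ : A ⊔ B ≤ K) hx).2

theorem not_isCyclic_of_card {p : ℕ} [Fact p.Prime] [Finite G] {E : Subgroup G}
    (hE : IsElementaryAbelian p E) (hc : p ^ 2 ≤ Nat.card E) : ¬ IsCyclic E := by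
  intro h
  obtain ⟨g, hg⟩ := h.exists_generator
  have hcard : Nat.card E ≤ p := by
    rw [← Nat.card_congr (Equiv.subtypeUnivEquiv hg), Nat.card_zpowers]
    exact Nat.le_of_dvd (Fact.out : p.Prime).pos
      (orderOf_dvd_of_pow_eq_one (Subtype.ext (by simpa using hE.2 g g.2)))
  have h2 := (Fact.out : p.Prime).two_le
  nlinarith [sq p]

variable [Finite G] {p : ℕ} [Fact p.Prime] {θ : G → Subgroup G}

/-- A vertex of the rank two graph lies in an elementary abelian subgroup of rank three. -/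
theorem exists_cover {E : Subgroup G} (hE : IsRankGraphVertex p 2 E) :
    ∃ B : Subgroup G, E ≤ B ∧ IsElementaryAbelian p B ∧ p ^ 3 ≤ Nat.card B := by
  obtain ⟨A, hAle, hA, hA3⟩ := exists_rank_three hE.2.2
  exact ⟨E ⊔ A, le_sup_left,
    sup_elementary hE.1 hA fun e he a ha => mem_centralizer_iff.mp (hAle ha) e he,
    hA3.trans (Nat.le_of_dvd Nat.card_pos (card_dvd_of_le le_sup_right))⟩

theorem deep_of_mem {B : Subgroup G} (hB : IsElementaryAbelian p B) (hB3 : p ^ 3 ≤ Nat.card B)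
    {a : G} (ha : a ∈ B) (ha1 : a ≠ 1) : IsDeep p a := by
  refine ⟨orderOf_eq_prime (hB.2 a ha) ha1, fun h => ?_⟩
  have hle : B ≤ centralizer ({a} : Set G) := fun b hb => mem_centralizer_iff.mpr fun y hy => by
    rw [Set.mem_singleton_iff.mp hy]
    exact congrArg Subtype.val (hB.1.is_comm.comm (⟨a, ha⟩ : B) ⟨b, hb⟩)
  have := h (B.subgroupOf (centralizer {a}))
    ⟨⟨fun x y => Subtype.ext (Subtype.ext (by
      exact congrArg (fun z : B => (z : G))
        (hB.1.is_comm.comm (⟨_, mem_subgroupOf.mp x.2⟩ : B) ⟨_, mem_subgroupOf.mp y.2⟩)))⟩⟩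
    (fun x hx => Subtype.ext (by simpa using hB.2 _ hx))
  rw [Nat.card_congr (subgroupOfEquivOfLe hle).toEquiv] at this
  have h23 : p ^ 2 < p ^ 3 := Nat.pow_lt_pow_right (Fact.out : p.Prime).one_lt (by norm_num)
  omega

/-- The subgroup generated by the values of `θ` on a subgroup. -/
def span (θ : G → Subgroup G) (E : Subgroup G) : Subgroup G :=
  ⨆ a : {a : G // a ∈ E ∧ a ≠ 1}, θ a

/-- An equivariant solvable signalizer functor on a connected group of rank three vanishes. -/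
theorem eq_bot_of_sft (hS : HasSFT p G) (hO : pPrimeCore p G = ⊥)
    (hconn : IsRankGraphConnected p 2 G)
    (hC : ∀ a : G, IsDeep p a →
      θ a ≤ centralizer ({a} : Set G) ∧ ¬ p ∣ Nat.card ↥(θ a) ∧ Group.IsSolvable ↥(θ a))
    (heq : ∀ a g : G, IsDeep p a → θ (g * a * g⁻¹) = (θ a).map (MulAut.conj g).toMonoidHom)
    (hbal : ∀ a b : G, IsDeep p a → IsDeep p b → a * b = b * a →
      θ a ⊓ centralizer {b} ≤ θ b)
    {a : G} (ha : IsDeep p a) : θ a = ⊥ := by
  have hp : p.Prime := Fact.out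
  have hcomm : ∀ B : Subgroup G, IsElementaryAbelian p B → ∀ x ∈ B, ∀ y ∈ B, x * y = y * x :=
    fun B hB x hx y hy => congrArg Subtype.val (hB.1.is_comm.comm (⟨x, hx⟩ : B) ⟨y, hy⟩)
  have hinv : ∀ B : Subgroup G, IsElementaryAbelian p B → p ^ 3 ≤ Nat.card B →
      ∀ x ∈ B, x ≠ 1 → ∀ b ∈ B, ∀ y ∈ θ x, b * y * b⁻¹ ∈ θ x := by
    intro B hB hB3 x hx hx1 b hb y hy
    have h := heq x b (deep_of_mem hB hB3 hx hx1)
    rw [hcomm B hB b hb x hx, mul_inv_cancel_right] at h
    rw [h]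
    exact ⟨y, hy, rfl⟩
  have sft : ∀ B : Subgroup G, IsElementaryAbelian p B → p ^ 3 ≤ Nat.card B →
      ¬ p ∣ Nat.card (span θ B) ∧
        ∀ x ∈ B, x ≠ 1 → span θ B ⊓ centralizer {x} = θ x :=
    fun B hB hB3 => hS B (hcomm B hB) hB.2 hB3 θ
      (fun x hx h1 => (hC x (deep_of_mem hB hB3 hx h1)).1)
      (fun x hx h1 => (hC x (deep_of_mem hB hB3 hx h1)).2.1)
      (hinv B hB hB3)
      (fun x hx h1 => (hC x (deep_of_mem hB hB3 hx h1)).2.2)
      (fun x hx hx1 y hy hy1 => hbal x y (deep_of_mem hB hB3 hx hx1) (deep_of_mem hB hB3 hy hy1)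
        (hcomm B hB x hx y hy))
  have hnorm : ∀ B : Subgroup G, IsElementaryAbelian p B → p ^ 3 ≤ Nat.card B →
      B ≤ normalizer (span θ B : Set G) := by
    intro B hB hB3
    refine fun b hb => ?_
    have key : ∀ c ∈ B, ∀ y ∈ span θ B, c * y * c⁻¹ ∈ span θ B := by
      intro c hc
      have hle : span θ B ≤ (span θ B).comap (MulAut.conj c).toMonoidHom :=
        iSup_le fun x y hy =>
          mem_iSup_of_mem x (hinv B hB hB3 x.1 x.2.1 x.2.2 c hc y hy)
      exact fun y hy => hle hy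
    refine mem_normalizer_iff.mpr fun y => ⟨key b hb y, fun h => ?_⟩
    simpa [mul_assoc] using key b⁻¹ (inv_mem hb) _ h
  have same : ∀ E B : Subgroup G, IsRankGraphVertex p 2 E → E ≤ B →
      IsElementaryAbelian p B → p ^ 3 ≤ Nat.card B → span θ E = span θ B := by
    intro E B hE hEB hB hB3
    haveI := hE.1.1
    have hle : span θ E ≤ span θ B :=
      iSup_le fun x => le_iSup (fun z : {a : G // a ∈ B ∧ a ≠ 1} => θ z) ⟨x.1, hEB x.2.1, x.2.2⟩
    refine Coprime.eq_of_forall_centralizer_le (not_isCyclic_of_card hE.1 hE.2.1)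
      (hEB.trans (hnorm B hB hB3)) ?_ hle fun x hx hx1 => ?_
    · obtain ⟨n, hn⟩ := IsPGroup.iff_card.mp
        (fun e : E => ⟨1, Subtype.ext (by simpa using hE.1.2 e e.2)⟩ : IsPGroup p E)
      rw [hn]
      exact Nat.Coprime.pow_left n ((hp.coprime_iff_not_dvd).mpr (sft B hB hB3).1)
    · rw [(sft B hB hB3).2 x (hEB hx) hx1]
      exact le_iSup (fun z : {a : G // a ∈ E ∧ a ≠ 1} => θ z) ⟨x, hx, hx1⟩
  have step : ∀ E F : Subgroup G, IsRankGraphVertex p 2 E → IsRankGraphVertex p 2 F →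
      (∀ x ∈ E, ∀ y ∈ F, x * y = y * x) → span θ E = span θ F := by
    intro E F hE hF hEF
    have hJ := sup_elementary hE.1 hF.1 hEF
    by_cases h3 : p ^ 3 ≤ Nat.card ↥(E ⊔ F)
    · rw [same E _ hE le_sup_left hJ h3, same F _ hF le_sup_right hJ h3]
    · obtain ⟨n, hn⟩ := IsPGroup.iff_card.mp
        (fun e : ↥(E ⊔ F) => ⟨1, Subtype.ext (by simpa using hJ.2 e e.2)⟩ : IsPGroup p ↥(E ⊔ F))
      have hn2 : n ≤ 2 := by
        by_contra hh
        exact h3 (hn ▸ Nat.pow_le_pow_right hp.pos (by omega))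
      have hE' : E = E ⊔ F := eq_of_le_of_card_ge le_sup_left
        ((hn ▸ Nat.pow_le_pow_right hp.pos hn2).trans hE.2.1)
      have hF' : F = E ⊔ F := eq_of_le_of_card_ge le_sup_right
        ((hn ▸ Nat.pow_le_pow_right hp.pos hn2).trans hF.2.1)
      rw [hE'.trans hF'.symm]
  -- a base vertex
  obtain ⟨A, hAle, hA, hA3⟩ := exists_rank_three ha.2
  have hza : IsElementaryAbelian p (zpowers a) := by
    refine ⟨inferInstance, ?_⟩
    rintro _ ⟨k, rfl⟩
    show (a ^ k) ^ p = 1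
    rw [← zpow_natCast, ← zpow_mul, mul_comm, zpow_mul, zpow_natCast, ← ha.1, pow_orderOf_eq_one,
      one_zpow]
  have hB : IsElementaryAbelian p (zpowers a ⊔ A) := by
    refine sup_elementary hza hA ?_
    rintro _ ⟨k, rfl⟩ y hy
    exact ((show Commute a y from mem_centralizer_iff.mp (hAle hy) a rfl).zpow_left k).eq
  set B := zpowers a ⊔ A with hBdef
  have hB3 : p ^ 3 ≤ Nat.card B :=
    hA3.trans (Nat.le_of_dvd Nat.card_pos (card_dvd_of_le le_sup_right))
  have hvert : ∀ g : G, IsRankGraphVertex p 2 (B.map (MulAut.conj g).toMonoidHom) := by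
    intro g
    set C := B.map (MulAut.conj g).toMonoidHom
    have hC1 : IsElementaryAbelian p C := by
      refine ⟨⟨⟨?_⟩⟩, ?_⟩
      · rintro ⟨_, x, hx, rfl⟩ ⟨_, y, hy, rfl⟩
        exact Subtype.ext (by simp [← map_mul, hcomm B hB x hx y hy])
      · rintro _ ⟨x, hx, rfl⟩
        rw [← map_pow, hB.2 x hx, map_one]
    have hC3 : p ^ 3 ≤ Nat.card C := by
      rwa [card_map_of_injective (MulAut.conj g).injective]
    refine ⟨hC1, le_trans (Nat.pow_le_pow_right hp.pos (by norm_num)) hC3, fun h => ?_⟩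
    have hle : C ≤ centralizer (C : Set G) :=
      fun x hx => mem_centralizer_iff.mpr fun y hy => hcomm C hC1 y hy x hx
    have := h (C.subgroupOf (centralizer (C : Set G)))
      ⟨⟨fun x y => Subtype.ext (Subtype.ext (hcomm C hC1 _ x.2 _ y.2))⟩⟩
      (fun x hx => Subtype.ext (by simpa using hC1.2 _ hx))
    rw [Nat.card_congr (subgroupOfEquivOfLe hle).toEquiv] at this
    have h23 : p ^ 2 < p ^ 3 := Nat.pow_lt_pow_right hp.one_lt (by norm_num)
    omega
  have hvB : IsRankGraphVertex p 2 B := by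
    have := hvert 1
    rwa [map_one, show (1 : MulAut G).toMonoidHom = MonoidHom.id G from rfl, Subgroup.map_id]
      at this
  have hconst : ∀ g : G, span θ (B.map (MulAut.conj g).toMonoidHom) = span θ B := by
    intro g
    have h := hconn B (B.map (MulAut.conj g).toMonoidHom) hvB (hvert g)
    have : ∀ E, Relation.ReflTransGen
        (fun X Y : Subgroup G =>
          IsRankGraphVertex p 2 X ∧ IsRankGraphVertex p 2 Y ∧ ∀ x ∈ X, ∀ y ∈ Y, x * y = y * x)
        B E → span θ E = span θ B := by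
      intro E hBE
      induction hBE with
      | refl => rfl
      | tail _ hs ih => rw [← step _ _ hs.1 hs.2.1 hs.2.2, ih]
    exact this _ h
  have hconj : ∀ g : G, (span θ B).map (MulAut.conj g).toMonoidHom ≤ span θ B := by
    intro g
    conv_rhs => rw [← hconst g]
    rw [span, Subgroup.map_iSup]
    refine iSup_le fun x => ?_
    rw [← heq x.1 g (deep_of_mem hB hB3 x.2.1 x.2.2)]
    refine le_iSup (fun z : {c : G // c ∈ B.map (MulAut.conj g).toMonoidHom ∧ c ≠ 1} => θ z)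
      ⟨g * x.1 * g⁻¹, ⟨x.1, x.2.1, rfl⟩, fun h1 => x.2.2 ?_⟩
    simpa [mul_inv_eq_one] using h1
  have hnormal : (span θ B).Normal := ⟨fun y hy g => hconj g ⟨y, hy, rfl⟩⟩
  have hle : span θ B ≤ pPrimeCore p G := by
    refine le_sSup ⟨hnormal, ?_⟩
    exact Nat.coprime_comm.mp ((hp.coprime_iff_not_dvd).mpr (sft B hB hB3).1)
  rw [hO] at hle
  refine le_bot_iff.mp (le_trans ?_ hle)
  exact le_iSup (fun z : {c : G // c ∈ B ∧ c ≠ 1} => θ z)
    ⟨a, mem_sup_left (mem_zpowers a), fun h1 => hp.ne_one (by rw [← ha.1, h1, orderOf_one])⟩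

theorem map_centralizerPPrimeCore (a g : G) :
    (centralizerPPrimeCore p a).map (MulAut.conj g).toMonoidHom ≤
      centralizerPPrimeCore p (g * a * g⁻¹) := by
  set C := centralizer ({a} : Set G)
  set D := centralizer ({g * a * g⁻¹} : Set G)
  have hCD : C.map (MulAut.conj g).toMonoidHom = D := by
    ext x
    constructor
    · rintro ⟨c, hc, rfl⟩
      refine mem_centralizer_iff.mpr fun y hy => ?_
      rw [Set.mem_singleton_iff.mp hy]
      show MulAut.conj g a * MulAut.conj g c = MulAut.conj g c * MulAut.conj g a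
      rw [← map_mul, ← map_mul, mem_centralizer_iff.mp hc a rfl]
    · intro hx
      refine ⟨g⁻¹ * x * g, mem_centralizer_iff.mpr fun y hy => ?_, by simp [mul_assoc]⟩
      rw [Set.mem_singleton_iff.mp hy]
      have h : g * a * g⁻¹ * x = x * (g * a * g⁻¹) := mem_centralizer_iff.mp hx _ rfl
      calc a * (g⁻¹ * x * g) = g⁻¹ * (g * a * g⁻¹ * x) * g := by group
        _ = g⁻¹ * (x * (g * a * g⁻¹)) * g := by rw [h]
        _ = g⁻¹ * x * g * a := by group
  set M := (centralizerPPrimeCore p a).map (MulAut.conj g).toMonoidHom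
  have hMD : M ≤ D := hCD ▸ map_mono (map_subtype_le _)
  have : M.subgroupOf D ≤ pPrimeCore p ↥D := by
    refine le_sSup ⟨⟨?_⟩, ?_⟩
    · rintro ⟨_, _⟩ ⟨k, ⟨c, hc, hck⟩, rfl⟩ ⟨d, hd⟩
      obtain ⟨e, he, rfl⟩ := (hCD ▸ hd : d ∈ C.map (MulAut.conj g).toMonoidHom)
      refine ⟨e * k * e⁻¹, ?_, by simp only [map_mul, map_inv]; rfl⟩
      refine ⟨⟨e, he⟩ * c * ⟨e, he⟩⁻¹, (inferInstance : (pPrimeCore p ↥C).Normal).conj_mem c hc _,
        ?_⟩
      simp [← hck]
    · rw [Nat.card_congr (subgroupOfEquivOfLe hMD).toEquiv,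
        card_map_of_injective (MulAut.conj g).injective, centralizerPPrimeCore,
        card_map_of_injective C.subtype_injective]
      exact PCore.coprime_card_pPrimeCore
  intro x hx
  exact ⟨⟨x, hMD hx⟩, this (show (⟨x, hMD hx⟩ : ↥D) ∈ M.subgroupOf D from hx), rfl⟩

/-- Balance of the functor `O_{p'}(C(·))` at a `p`-element whose neighbour has `p`-constrained
centraliser. -/
theorem balance_centralizerPPrimeCore' {a b : G} {n : ℕ} (hap : a ^ p ^ n = 1) (hab : a * b = b * a)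
    (hb : IsPConstrained p ↥(centralizer ({b} : Set G))) :
    centralizerPPrimeCore p a ⊓ centralizer {b} ≤ centralizerPPrimeCore p b := by
  set H := centralizer ({b} : Set G)
  set C := centralizer ({a} : Set G)
  set N := centralizerPPrimeCore p a
  have haH : a ∈ H := mem_centralizer_iff.mpr fun y hy => by
    rw [Set.mem_singleton_iff.mp hy, hab]
  let a' : ↥H := ⟨a, haH⟩
  have hP : IsPGroup p ↥(zpowers a') := by
    rintro ⟨_, k, rfl⟩
    refine ⟨n, Subtype.ext (Subtype.ext ?_)⟩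
    show (a ^ k) ^ p ^ n = 1
    rw [← zpow_natCast, ← zpow_mul, mul_comm, zpow_mul, zpow_natCast, hap, one_zpow]
  set K := centralizer ((zpowers a' : Subgroup ↥H) : Set ↥H)
  have hle : N.subgroupOf H ≤ K := by
    intro x hx
    refine mem_centralizer_iff.mpr ?_
    rintro _ ⟨k, rfl⟩
    refine Subtype.ext ?_
    show a ^ k * (x : G) = x * a ^ k
    exact ((show Commute a x from
      mem_centralizer_iff.mp (map_subtype_le _ hx) a rfl).zpow_left k).eq
  have hcore : (N.subgroupOf H).subgroupOf K ≤ pPrimeCore p ↥K := by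
    refine le_sSup ⟨⟨?_⟩, ?_⟩
    · intro x hx y
      have hy : ((y : ↥H) : G) ∈ C := mem_centralizer_iff.mpr fun z hz => by
        rw [Set.mem_singleton_iff.mp hz]
        exact congrArg Subtype.val (mem_centralizer_iff.mp y.2 a' (mem_zpowers a'))
      obtain ⟨c, hc, hcx⟩ := (hx : ((x : ↥H) : G) ∈ N)
      refine ⟨⟨_, hy⟩ * c * ⟨_, hy⟩⁻¹,
        (inferInstance : (pPrimeCore p ↥C).Normal).conj_mem c hc _, ?_⟩
      simp only [coe_subtype] at hcx
      simp [hcx]
    · rw [Nat.card_congr (subgroupOfEquivOfLe hle).toEquiv]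
      refine (PCore.coprime_card_pPrimeCore (G := ↥C)).coprime_dvd_left ?_
      rw [← card_map_of_injective C.subtype_injective,
        ← card_map_of_injective H.subtype_injective]
      refine card_dvd_of_le ?_
      rintro _ ⟨x, hx, rfl⟩
      exact hx
  rintro x ⟨hxN, hxH⟩
  have hxK : (⟨x, hxH⟩ : ↥H) ∈ K := hle hxN
  have : (⟨x, hxH⟩ : ↥H) ∈ (pPrimeCore p ↥K).map K.subtype :=
    ⟨⟨_, hxK⟩, hcore (show (⟨⟨x, hxH⟩, hxK⟩ : ↥K) ∈ (N.subgroupOf H).subgroupOf K from hxN), rfl⟩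
  rw [PCore.map_pPrimeCore_centralizer hb hP] at this
  exact ⟨⟨x, hxH⟩, this.1, rfl⟩

/-- Balance of the functor `O_{p'}(C(·))` when centralisers are `p`-constrained. -/
theorem balance_centralizerPPrimeCore {a b : G} (hap : a ^ p = 1) (hab : a * b = b * a)
    (hb : IsPConstrained p ↥(centralizer ({b} : Set G))) :
    centralizerPPrimeCore p a ⊓ centralizer {b} ≤ centralizerPPrimeCore p b :=
  balance_centralizerPPrimeCore' (n := 1) (by rw [pow_one, hap]) hab hb

/-- A `p`-constrained group with trivial `p'`-core has `F* = O_p`. -/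
theorem fStar_eq_of_constrained {X : Type*} [Group X] [Finite X] (hc : IsPConstrained p X)
    (hO : pPrimeCore p X = ⊥) : generalizedFittingSubgroup X = pCore p X := by
  refine Balance.generalizedFitting_eq_pCore ?_
  have h := PCore.isPConstrained_iff.mp hc
  exact PCore.centralizer_pCore_le_congr
    ((QuotientGroup.quotientMulEquivOfEq hO).trans QuotientGroup.quotientBot) h

/-- Trivial `p`-layers and solvable cores in centralisers force `F*(C(a)) = O_p(C(a))`. -/
theorem generalizedFitting_centralizer_of_sft (hS : HasSFT p G) (hO : pPrimeCore p G = ⊥)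
    (hconn : IsRankGraphConnected p 2 G)
    (hL : ∀ a : G, IsDeep p a → pLayer p ↥(centralizer ({a} : Set G)) = ⊥ ∧
      Group.IsSolvable ↥(centralizerPPrimeCore p a))
    {a : G} (ha : IsDeep p a) :
    generalizedFittingSubgroup ↥(centralizer ({a} : Set G)) =
      pCore p ↥(centralizer ({a} : Set G)) := by
  classical
  have hp : p.Prime := Fact.out
  have hcon : ∀ x : G, Cfsg.Agent.Signalizer.IsDeep p x →
      Cfsg.IsPConstrained p ↥(Subgroup.centralizer ({x} : Set G)) :=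
    fun x hx => (Cfsg.Agent.S1327.result p).mpr (hL x hx).1
  have key : Cfsg.centralizerPPrimeCore p a = ⊥ := by
    refine Cfsg.Agent.Signalizer.eq_bot_of_sft hS hO hconn (θ := fun x => Cfsg.centralizerPPrimeCore p x)
      (fun x hx => ⟨Subgroup.map_subtype_le _, ?_, (hL x hx).2⟩) (fun x g _ => ?_)
      (fun x y hx hy hxy => Cfsg.Agent.Signalizer.balance_centralizerPPrimeCore
        (orderOf_dvd_iff_pow_eq_one.mp (dvd_of_eq hx.1)) hxy (hcon y hy)) ha
    · unfold Cfsg.centralizerPPrimeCore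
      rw [Subgroup.card_map_of_injective (Subgroup.subtype_injective _)]
      exact hp.coprime_iff_not_dvd.mp (Nat.coprime_comm.mp Cfsg.Agent.PCore.coprime_card_pPrimeCore)
    · refine le_antisymm ?_ (Cfsg.Agent.Signalizer.map_centralizerPPrimeCore x g)
      intro y hy
      refine ⟨g⁻¹ * y * g, ?_, by simp [mul_assoc]⟩
      have := Cfsg.Agent.Signalizer.map_centralizerPPrimeCore (p := p) (g * x * g⁻¹) g⁻¹
        ⟨y, hy, rfl⟩
      simpa [mul_assoc] using this
  refine Cfsg.Agent.Signalizer.fStar_eq_of_constrained (hcon a ha) ?_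
  exact (Subgroup.map_eq_bot_iff_of_injective _ (Subgroup.subtype_injective _)).mp key

end Cfsg.Agent.Signalizer
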