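import Mathlib
import Cfsg.Prelude.Def_Balance
import Cfsg.Agent.Lib.Coprime.Basic
import Cfsg.Agent.Lib.Coprime.Sylow
import Cfsg.Agent.Lib.Coprime.Commutator
import Cfsg.Agent.Lib.OddOrder.TransitivityGeneral

/-! The family of a solvable signalizer functor and the transitivity theorem for it. -/

namespace Cfsg.Agent.Signalizer

open Cfsg
open Subgroup (normalizer centralizer)
open scoped Pointwise

universe u
variable {G : Type u} [Group G] {p : ℕ} {A : Subgroup G} {θ : G → Subgroup G}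

theorem le_normalizer_of_conj_mem {A U : Subgroup G} (h : ∀ b ∈ A, ∀ u ∈ U, b * u * b⁻¹ ∈ U) :
    A ≤ normalizer (U : Set G) := fun b hb => by
  refine Subgroup.mem_normalizer_iff.mpr fun u => ⟨h b hb u, fun hu => ?_⟩
  simpa [mul_assoc] using h b⁻¹ (A.inv_mem hb) _ hu

theorem le_normalizer_of_family {U : Subgroup G} (hU : U ∈ signalizerFamily p A θ) :
    A ≤ normalizer (U : Set G) := le_normalizer_of_conj_mem hU.2.2.1

theorem family_of_le [Finite G] {U V : Subgroup G} (hU : U ∈ signalizerFamily p A θ) (hVU : V ≤ U)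
    (hV : A ≤ normalizer (V : Set G)) : V ∈ signalizerFamily p A θ :=
  ⟨Coprime.isSolvable_of_le hVU hU.1, fun h => hU.2.1 (h.trans (Subgroup.card_dvd_of_le hVU)),
    fun b hb x hx => (Subgroup.mem_normalizer_iff.mp (hV hb) x).mp hx,
    fun a ha ha1 => (inf_le_inf_right _ hVU).trans (hU.2.2.2 a ha ha1)⟩

theorem theta_mem_family (hθ : IsSolvableSignalizerFunctor p A θ) {a : G} (ha : a ∈ A) (ha1 : a ≠ 1) :
    θ a ∈ signalizerFamily p A θ :=
  ⟨hθ.2 a ha ha1, hθ.1.2.1 a ha ha1, hθ.1.2.2.1 a ha ha1, fun b hb hb1 => hθ.1.2.2.2 a ha ha1 b hb hb1⟩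

theorem theta_normalized (hθ : IsSolvableSignalizerFunctor p A θ) {a : G} (ha : a ∈ A) (ha1 : a ≠ 1) :
    A ≤ normalizer (θ a : Set G) := le_normalizer_of_family (theta_mem_family hθ ha ha1)

theorem signalizerInf_le {B : Subgroup G} {b : G} (hb : b ∈ B) (hb1 : b ≠ 1) : signalizerInf B θ ≤ θ b :=
  iInf_le (fun x : {x : G // x ∈ B ∧ x ≠ 1} => θ (x : G)) ⟨b, hb, hb1⟩

theorem mem_signalizerInf {B : Subgroup G} {c : G} (h : ∀ b ∈ B, b ≠ 1 → c ∈ θ b) : c ∈ signalizerInf B θ := by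
  rw [signalizerInf, Subgroup.mem_iInf]
  exact fun b => h b b.2.1 b.2.2

theorem signalizerInf_le_centralizer (hθ : IsSolvableSignalizerFunctor p A θ) {B : Subgroup G} (hB : B ≤ A) :
    signalizerInf B θ ≤ centralizer (B : Set G) := fun c hc => by
  rw [Subgroup.mem_centralizer_iff]
  intro b hb
  rcases eq_or_ne b 1 with rfl | hb1
  · simp
  exact (Subgroup.mem_centralizer_singleton_iff.mp (hθ.1.1 b (hB hb) hb1 (signalizerInf_le hb hb1 hc))).symm

/-- An element of `θ b` centralizing `A` lies in every `θ a`. -/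
theorem mem_inf_of_mem_theta (hθ : IsSolvableSignalizerFunctor p A θ) {b c : G} (hb : b ∈ A) (hb1 : b ≠ 1)
    (hc : c ∈ θ b) (hcA : c ∈ centralizer (A : Set G)) : c ∈ signalizerInf A θ :=
  mem_signalizerInf fun a ha ha1 => hθ.1.2.2.2 b hb hb1 a ha ha1
    ⟨hc, Subgroup.mem_centralizer_singleton_iff.mpr (Subgroup.mem_centralizer_iff.mp hcA a ha).symm⟩

theorem smul_family [Finite G] (hθ : IsSolvableSignalizerFunctor p A θ) {c : G} (hc : c ∈ signalizerInf A θ)
    {U : Subgroup G} (hU : U ∈ signalizerFamily p A θ) : MulAut.conj c • U ∈ signalizerFamily p A θ := by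
  have hcA := signalizerInf_le_centralizer hθ le_rfl hc
  refine ⟨?_, by rw [Coprime.card_conj_smul]; exact hU.2.1, ?_, ?_⟩
  · exact Coprime.isSolvable_map (MulAut.conj c).toMonoidHom U hU.1
  · intro b hb x hx
    rw [Coprime.mem_conj_smul_iff] at hx ⊢
    have hbc := Subgroup.mem_centralizer_iff.mp hcA b hb
    have h := hU.2.2.1 b hb _ hx
    have e : b * (c⁻¹ * x * c) * b⁻¹ = c⁻¹ * (b * x * b⁻¹) * c := by
      have e1 : b * c⁻¹ = c⁻¹ * b := by rw [mul_inv_eq_iff_eq_mul, mul_assoc, hbc, inv_mul_cancel_left]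
      calc b * (c⁻¹ * x * c) * b⁻¹ = (b * c⁻¹) * x * (b * c⁻¹)⁻¹ := by group
        _ = _ := by rw [e1]; group
    rwa [e] at h
  · intro a ha ha1 x hx
    obtain ⟨hx1, hx2⟩ := hx
    have hx1 : c⁻¹ * x * c ∈ U := Coprime.mem_conj_smul_iff.mp hx1
    have hac := Subgroup.mem_centralizer_iff.mp hcA a ha
    have hmem : c⁻¹ * x * c ∈ θ a := by
      refine hU.2.2.2 a ha ha1 ⟨hx1, Subgroup.mem_centralizer_singleton_iff.mpr ?_⟩
      have e1 : a * c⁻¹ = c⁻¹ * a := by rw [mul_inv_eq_iff_eq_mul, mul_assoc, hac, inv_mul_cancel_left]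
      have e2 : x * a = a * x := Subgroup.mem_centralizer_singleton_iff.mp hx2
      calc c⁻¹ * x * c * a = c⁻¹ * x * (a * c) := by rw [hac]; group
        _ = c⁻¹ * a * (x * c) := by rw [← mul_assoc, mul_assoc c⁻¹ x a, e2]; group
        _ = a * (c⁻¹ * x * c) := by rw [← e1]; group
    have := (θ a).mul_mem ((θ a).mul_mem (signalizerInf_le ha ha1 hc) hmem)
      ((θ a).inv_mem (signalizerInf_le ha ha1 hc))
    simpa [mul_assoc] using this

variable [Finite G] [hpF : Fact p.Prime]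

theorem coprime_zpowers {U : Subgroup G} (hA : IsElementaryAbelian p A) (hU : ¬ p ∣ Nat.card U) {a : G}
    (ha : a ∈ A) : (Nat.card (Subgroup.zpowers a)).Coprime (Nat.card U) := by
  rw [Nat.card_zpowers]
  exact ((Nat.Prime.coprime_iff_not_dvd hpF.out).mpr hU).coprime_dvd_left (orderOf_dvd_of_pow_eq_one (hA.2 a ha))

omit [Finite G] hpF in
theorem centralizer_zpowers (a : G) :
    centralizer ((Subgroup.zpowers a : Subgroup G) : Set G) = centralizer ({a} : Set G) := by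
  rw [Subgroup.zpowers_eq_closure, Subgroup.centralizer_closure]

/-- `XY` is in the family when `Y` normalizes `X`. -/
theorem sup_mem_family (hA : IsElementaryAbelian p A) (hθ : IsSolvableSignalizerFunctor p A θ) {X Y : Subgroup G}
    (hX : X ∈ signalizerFamily p A θ) (hY : Y ∈ signalizerFamily p A θ) (hn : Y ≤ normalizer (X : Set G)) :
    X ⊔ Y ∈ signalizerFamily p A θ := by
  set K := X ⊔ Y
  have hXK : X ≤ K := le_sup_left
  have hYK : Y ≤ K := le_sup_right
  have hKn : K ≤ normalizer (X : Set G) := sup_le Subgroup.le_normalizer hn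
  haveI hXn : (X.subgroupOf K).Normal := (Subgroup.normal_subgroupOf_iff_le_normalizer hXK).mpr hKn
  have hAK : A ≤ normalizer (K : Set G) := fun a ha => by
    rw [Subgroup.mem_normalizer_iff_map_conj_eq, Subgroup.map_sup,
      Subgroup.mem_normalizer_iff_map_conj_eq.mp (le_normalizer_of_family hX ha),
      Subgroup.mem_normalizer_iff_map_conj_eq.mp (le_normalizer_of_family hY ha)]
  have hcard : ¬ p ∣ Nat.card K := by
    intro h
    have e := Subgroup.relIndex_mul_relIndex ⊥ X K bot_le hXK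
    rw [Subgroup.relIndex_bot_left, Subgroup.relIndex_bot_left] at e
    rw [← e] at h
    rcases hpF.out.dvd_mul.mp h with h | h
    · exact hX.2.1 h
    · refine hY.2.1 (h.trans ?_)
      have : X.relIndex K = X.relIndex Y := by
        show X.relIndex (X ⊔ Y) = _
        rw [sup_comm]
        exact Coprime.relIndex_sup_right_of_le_normalizer hn
      rw [this]
      exact Subgroup.relIndex_dvd_card X Y
  refine ⟨?_, hcard, fun b hb x hx => (Subgroup.mem_normalizer_iff.mp (hAK hb) x).mp hx, ?_⟩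
  · haveI : Group.IsSolvable (X.subgroupOf K) := Coprime.isSolvable_subgroupOf hXK hX.1
    haveI : Group.IsSolvable (K ⧸ X.subgroupOf K) := by
      haveI := hY.1
      refine Group.isSolvable_of_surjective
        (f := (QuotientGroup.mk' (X.subgroupOf K)).comp (Subgroup.inclusion hYK)) fun z => ?_
      obtain ⟨⟨k, hk⟩, rfl⟩ := QuotientGroup.mk'_surjective _ z
      obtain ⟨x, hx, y, hy, rfl⟩ := (Coprime.mem_sup_iff_of_le_normalizer' hn).mp
        (show k ∈ Y ⊔ X by rw [sup_comm]; exact hk)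
      refine ⟨⟨y, hy⟩, (QuotientGroup.eq (s := X.subgroupOf K)).mpr ?_⟩
      show y⁻¹ * (x * y) ∈ X
      have := (Subgroup.mem_normalizer_iff''.mp (hn hy) x).mp hx
      simpa [mul_assoc] using this
    exact Group.isSolvable_of_ker_le_range (X.subgroupOf K).subtype (QuotientGroup.mk' (X.subgroupOf K))
      (by rw [QuotientGroup.ker_mk', Subgroup.range_subtype])
  · intro a ha ha1 k hk
    obtain ⟨hk1, hk2⟩ := hk
    obtain ⟨x, hx, y, hy, rfl⟩ := (Coprime.mem_sup_iff_of_le_normalizer' hn).mp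
      (show k ∈ Y ⊔ X by rw [sup_comm]; exact hk1)
    rw [← centralizer_zpowers] at hk2
    have hzK : Subgroup.zpowers a ≤ normalizer (K : Set G) := Subgroup.zpowers_le.mpr (hAK ha)
    obtain ⟨x', hx', y', hy', e⟩ := Coprime.exists_mul_of_mul (A := Subgroup.zpowers a) (K := K)
      (coprime_zpowers hA hcard ha) (Or.inl inferInstance) hXK
      (Subgroup.zpowers_le.mpr (le_normalizer_of_family hX ha))
      (Subgroup.zpowers_le.mpr (le_normalizer_of_family hY ha)) hx hy hk2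
    rw [centralizer_zpowers] at hx' hy'
    rw [e]
    exact (θ a).mul_mem (hX.2.2.2 a ha ha1 hx') (hY.2.2.2 a ha ha1 hy')

/-- `q`-subgroups in the family, maximal ones. -/
def IsMaxQ (p : ℕ) (A : Subgroup G) (θ : G → Subgroup G) (q : ℕ) (Q : Subgroup G) : Prop :=
  Q ∈ signalizerFamily p A θ ∧ IsPGroup q Q ∧
    ∀ R ∈ signalizerFamily p A θ, IsPGroup q R → Q ≤ R → R = Q

omit hpF in
theorem exists_maxQ_ge {q : ℕ} {U : Subgroup G} (hU : U ∈ signalizerFamily p A θ) (hq : IsPGroup q U) :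
    ∃ Q, IsMaxQ p A θ q Q ∧ U ≤ Q := by
  obtain ⟨Q, hUQ, hQ⟩ := Set.Finite.exists_le_maximal
    (Set.toFinite {R : Subgroup G | R ∈ signalizerFamily p A θ ∧ IsPGroup q R}) (a := U) ⟨hU, hq⟩
  exact ⟨Q, ⟨hQ.1.1, hQ.1.2, fun R hR hRq hle => le_antisymm (hQ.2 ⟨hR, hRq⟩ hle) hle⟩, hUQ⟩

omit hpF in
theorem smul_maxQ (hθ : IsSolvableSignalizerFunctor p A θ) {q : ℕ} {c : G} (hc : c ∈ signalizerInf A θ)
    {Q : Subgroup G} (hQ : IsMaxQ p A θ q Q) : IsMaxQ p A θ q (MulAut.conj c • Q) := by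
  refine ⟨smul_family hθ hc hQ.1, hQ.2.1.map (MulAut.conj c).toMonoidHom, fun R hR hRq hle => ?_⟩
  have h := hQ.2.2 _ (smul_family hθ (Subgroup.inv_mem _ hc) hR) (hRq.map (MulAut.conj c⁻¹).toMonoidHom) (by
    have := Subgroup.pointwise_smul_le_pointwise_smul_iff (a := MulAut.conj c⁻¹).mpr hle
    rwa [Coprime.conj_smul_smul, inv_mul_cancel, map_one, one_smul] at this)
  rw [← h, Coprime.conj_smul_smul, mul_inv_cancel, map_one, one_smul]

theorem isSolvable_A (hA : IsElementaryAbelian p A) : Group.IsSolvable A := by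
  have h : IsPGroup p A := fun a => ⟨1, Subtype.ext (by simpa using hA.2 a a.2)⟩
  haveI := h.isNilpotent
  infer_instance

theorem coprime_A (hA : IsElementaryAbelian p A) {U : Subgroup G} (hU : ¬ p ∣ Nat.card U) :
    (Nat.card A).Coprime (Nat.card U) := by
  have h : IsPGroup p A := fun a => ⟨1, Subtype.ext (by simpa using hA.2 a a.2)⟩
  obtain ⟨k, hk⟩ := h.exists_card_eq
  rw [hk]
  exact ((Nat.Prime.coprime_iff_not_dvd hpF.out).mpr hU).pow_left k

/-- **Transitivity theorem** for a solvable signalizer functor. -/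
theorem transitivity (hA : IsElementaryAbelian p A) (hA3 : p ^ 3 ≤ Nat.card A)
    (hθ : IsSolvableSignalizerFunctor p A θ) {q : ℕ} [hqF : Fact q.Prime] {Q₁ Q₂ : Subgroup G}
    (h₁ : IsMaxQ p A θ q Q₁) (h₂ : IsMaxQ p A θ q Q₂) :
    ∃ c ∈ signalizerInf A θ, Q₂ = MulAut.conj c • Q₁ := by
  rcases eq_or_ne q p with hqp | hqp
  · subst hqp
    have bot : ∀ Q : Subgroup G, IsMaxQ q A θ q Q → Q = ⊥ := fun Q hQ =>
      PCore.eq_bot_of_isPGroup_of_coprime hQ.2.1 ((Nat.Prime.coprime_iff_not_dvd hqF.out).mpr hQ.1.2.1).symm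
    exact ⟨1, Subgroup.one_mem _, by rw [map_one, one_smul, bot _ h₁, bot _ h₂]⟩
  have hAG : IsPGroup p A := fun a => ⟨1, Subtype.ext (by simpa using hA.2 a a.2)⟩
  obtain ⟨m, hm⟩ := hAG.exists_card_eq
  obtain ⟨E₁, hE₁⟩ := Sylow.exists_subgroup_card_pow_prime p (G := A) (n := 2 + 1)
    (hm ▸ pow_dvd_pow p ((Nat.pow_le_pow_iff_right hpF.out.one_lt).mp (hm ▸ hA3)))
  set E₀ := E₁.map A.subtype with hE₀def
  have hE₀ : E₀ ≤ A := Subgroup.map_subtype_le _
  have hE₀c : Nat.card E₀ = p ^ (2 + 1) := by rw [hE₀def, Subgroup.card_map_of_injective A.subtype_injective, hE₁]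
  have hcomm : ∀ a ∈ A, ∀ b ∈ A, Commute a b := fun a ha b hb =>
    congrArg Subtype.val (hA.1.1.comm (⟨a, ha⟩ : A) ⟨b, hb⟩)
  induction hn : Nat.card G - Nat.card ↥(Q₁ ⊓ Q₂) using Nat.strong_induction_on generalizing Q₁ Q₂ with
  | _ n ih =>
  subst hn
  set D := Q₁ ⊓ Q₂ with hD
  rcases eq_or_lt_of_le (inf_le_left : D ≤ Q₁) with h | h1
  · rw [h₁.2.2 Q₂ h₂.1 h₂.2.1 (h ▸ inf_le_right)]
    exact ⟨1, Subgroup.one_mem _, by rw [map_one, one_smul]⟩
  rcases eq_or_lt_of_le (inf_le_right : D ≤ Q₂) with h | h2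
  · rw [h₂.2.2 Q₁ h₁.1 h₁.2.1 (h ▸ inf_le_left)]
    exact ⟨1, Subgroup.one_mem _, by rw [map_one, one_smul]⟩
  set H := normalizer (D : Set G)
  have hAD : A ≤ normalizer (D : Set G) :=
    Coprime.le_normalizer_inf_of_le (le_normalizer_of_family h₁.1) (le_normalizer_of_family h₂.1)
  have hAH : A ≤ normalizer ((H : Subgroup G) : Set G) := hAD.trans Subgroup.le_normalizer
  have grow : ∀ {Q : Subgroup G}, IsPGroup q Q → D < Q → D < Q ⊓ H := by
    intro Q hQ hlt
    refine lt_of_le_of_ne (le_inf hlt.le Subgroup.le_normalizer) fun heq => ?_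
    have hlt' : D.subgroupOf Q < ⊤ := by
      rw [lt_top_iff_ne_top]
      exact fun he => hlt.not_ge (Subgroup.subgroupOf_eq_top.mp he)
    haveI := hQ.isNilpotent
    obtain ⟨x, hx, hxD⟩ := SetLike.exists_of_lt (Group.normalizerCondition_of_isNilpotent _ hlt')
    apply hxD
    rw [Subgroup.mem_subgroupOf, heq]
    refine ⟨x.2, Subgroup.mem_normalizer_iff.mpr fun d => ?_⟩
    have hx' := Subgroup.mem_normalizer_iff.mp hx
    constructor
    · intro hd
      exact (hx' ⟨d, hlt.le hd⟩).mp hd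
    · intro hd
      have hdQ : d ∈ Q := by
        have := Q.mul_mem (Q.mul_mem (Q.inv_mem x.2) (hlt.le hd)) x.2
        simpa [mul_assoc] using this
      exact (hx' ⟨d, hdQ⟩).mpr hd
  have hE₀p : ∀ a ∈ E₀, a ^ p = 1 := fun a ha => hA.2 a (hE₀ ha)
  have hE₀' : ∀ a ∈ E₀, ∀ b ∈ E₀, Commute a b := fun a ha b hb => hcomm a (hE₀ ha) b (hE₀ hb)
  obtain ⟨B₁, hB₁E, hB₁, hB₁D⟩ := OddOrder.exists_plane_not_le hqp hE₀c hE₀p hE₀' (h₁.2.1.to_le inf_le_left)
    (grow h₁.2.1 h1) (hE₀.trans (Coprime.le_normalizer_inf_of_le (le_normalizer_of_family h₁.1) hAH))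
  obtain ⟨B₂, hB₂E, hB₂, hB₂D⟩ := OddOrder.exists_plane_not_le hqp hE₀c hE₀p hE₀' (h₂.2.1.to_le inf_le_left)
    (grow h₂.2.1 h2) (hE₀.trans (Coprime.le_normalizer_inf_of_le (le_normalizer_of_family h₂.1) hAH))
  have hne : B₁ ⊓ B₂ ≠ ⊥ := by
    intro h
    have hB : B₁ ≤ normalizer (B₂ : Set G) :=
      (fun a ha => Subgroup.centralizer_le_normalizer _
        (Subgroup.mem_centralizer_iff.mpr fun b hb => (hE₀' a (hB₁E ha) b (hB₂E hb)).eq.symm))
    have e := Coprime.card_sup_of_le_normalizer hB h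
    have h' := Subgroup.card_le_of_le (sup_le hB₁E hB₂E)
    rw [e, hB₁, hB₂, hE₀c, ← pow_add] at h'
    exact absurd h' (not_le.mpr (Nat.pow_lt_pow_right hpF.out.one_lt (by norm_num)))
  obtain ⟨b, hb, hb1⟩ := (B₁ ⊓ B₂).bot_or_exists_ne_one.resolve_left hne
  have hbA : b ∈ A := hE₀ (hB₁E hb.1)
  have hcb : A ≤ normalizer ((centralizer ({b} : Set G) : Subgroup G) : Set G) := fun a ha =>
    Subgroup.le_normalizer (Subgroup.mem_centralizer_singleton_iff.mpr (hcomm a ha b hbA).eq)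
  set W := θ b ⊓ H with hW
  have hAW : A ≤ normalizer (W : Set G) := Coprime.le_normalizer_inf_of_le (theta_normalized hθ hbA hb1) hAH
  have hWF : W ∈ signalizerFamily p A θ := family_of_le (theta_mem_family hθ hbA hb1) inf_le_left hAW
  have part : ∀ {Q B : Subgroup G}, IsMaxQ p A θ q Q → b ∈ B →
      ¬ (Q ⊓ H) ⊓ centralizer (B : Set G) ≤ D →
      ∃ U : Subgroup G, U ≤ Q ∧ U ≤ W ∧ IsPGroup q U ∧ A ≤ normalizer (U : Set G) ∧ ¬ U ≤ D := by
    intro Q B hQ hbB hnot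
    refine ⟨(Q ⊓ H) ⊓ centralizer ({b} : Set G), inf_le_left.trans inf_le_left, le_inf ?_
      (inf_le_left.trans inf_le_right), hQ.2.1.to_le (inf_le_left.trans inf_le_left),
      Coprime.le_normalizer_inf_of_le (Coprime.le_normalizer_inf_of_le (le_normalizer_of_family hQ.1) hAH) hcb,
      fun h => hnot ((le_inf inf_le_left (inf_le_right.trans
        (Subgroup.centralizer_le (Set.singleton_subset_iff.mpr hbB)))).trans h)⟩
    exact (inf_le_inf_right _ inf_le_left).trans (hQ.1.2.2.2 b hbA hb1)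
  obtain ⟨U₁, hU₁Q, hU₁W, hU₁, hU₁E, hU₁D⟩ := part h₁ hb.1 hB₁D
  obtain ⟨U₂, hU₂Q, hU₂W, hU₂, hU₂E, hU₂D⟩ := part h₂ hb.2 hB₂D
  have hcop := coprime_A hA hWF.2.1
  have hs : Group.IsSolvable A ∨ Group.IsSolvable W := Or.inl (isSolvable_A hA)
  obtain ⟨S₁, hS₁, hS₁E⟩ := Coprime.exists_invariant_sylow_ge hAW hcop hs hU₁W hU₁ hU₁E
  obtain ⟨S₂, hS₂, hS₂E⟩ := Coprime.exists_invariant_sylow_ge hAW hcop hs hU₂W hU₂ hU₂E
  obtain ⟨c, hcA, hc⟩ := Coprime.exists_centralizer_smul_sylow hAW hcop hs S₁ S₂ hS₁E hS₂E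
  have hck : (c : G) ∈ signalizerInf A θ := mem_inf_of_mem_theta hθ hbA hb1 c.2.1 hcA
  set S₁' := (S₁ : Subgroup W).map W.subtype
  have hSH : S₁' ≤ H := (Subgroup.map_subtype_le _).trans inf_le_right
  have hD' : D ∈ signalizerFamily p A θ := family_of_le h₁.1 inf_le_left hAD
  have hSD : S₁' ⊔ D ∈ signalizerFamily p A θ := by
    rw [sup_comm]
    exact sup_mem_family hA hθ hD' (family_of_le hWF (Subgroup.map_subtype_le _) hS₁E) hSH
  obtain ⟨Q, hQ, hQS⟩ := exists_maxQ_ge hSD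
    ((S₁.isPGroup'.map W.subtype).to_sup_of_normal_right' (h₁.2.1.to_le inf_le_left) hSH)
  set Q' := MulAut.conj (c : G) • Q with hQ'def
  have hQ' : IsMaxQ p A θ q Q' := smul_maxQ hθ hck hQ
  have hS₂Q : (S₂ : Subgroup W).map W.subtype ≤ Q' := by
    rw [← hc, Sylow.coe_subgroup_smul, Coprime.map_conj_smul, Subgroup.coe_subtype]
    exact Subgroup.pointwise_smul_le_pointwise_smul_iff.mpr (le_sup_left.trans hQS)
  have hDQ' : D ≤ Q' := by
    rw [← Coprime.conj_smul_eq_self_of_mem (show (c : G) ∈ H from c.2.2)]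
    exact Subgroup.pointwise_smul_le_pointwise_smul_iff.mpr (le_sup_right.trans hQS)
  have step : ∀ {R R' : Subgroup G}, IsMaxQ p A θ q R → IsMaxQ p A θ q R' → D < R ⊓ R' →
      ∃ k ∈ signalizerInf A θ, R' = MulAut.conj k • R := by
    intro R R' hR hR' hlt
    refine ih _ ?_ hR hR' rfl
    have hc : Nat.card D < Nat.card ↥(R ⊓ R') :=
      lt_of_le_of_ne (Subgroup.card_le_of_le hlt.le) fun he =>
        hlt.ne (Subgroup.eq_of_le_of_card_ge hlt.le he.ge)
    have hG' : Nat.card ↥(R ⊓ R') ≤ Nat.card G := Subgroup.card_le_card_group _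
    omega
  obtain ⟨k, hk, hk'⟩ := step h₁ hQ (lt_of_le_of_ne (le_inf inf_le_left (le_sup_right.trans hQS))
    (fun h => hU₁D ((le_inf hU₁Q (hS₁.trans (le_sup_left.trans hQS))).trans h.ge)))
  obtain ⟨l, hl, hl'⟩ := step hQ' h₂ (lt_of_le_of_ne (le_inf hDQ' inf_le_right)
    (fun h => hU₂D ((le_inf (hS₂.trans hS₂Q) hU₂Q).trans h.ge)))
  exact ⟨l * c * k, Subgroup.mul_mem _ (Subgroup.mul_mem _ hl hck) hk, by
    rw [hl', hQ'def, hk', Coprime.conj_smul_smul, Coprime.conj_smul_smul]⟩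

/-- Some conjugate of a maximal family `q`-subgroup meets each member in a Sylow `q`-subgroup. -/
theorem exists_sylow_inf (hA : IsElementaryAbelian p A) (hA3 : p ^ 3 ≤ Nat.card A)
    (hθ : IsSolvableSignalizerFunctor p A θ) {q : ℕ} [hqF : Fact q.Prime] {Q : Subgroup G}
    (hQ : IsMaxQ p A θ q Q) {H : Subgroup G} (hH : H ∈ signalizerFamily p A θ) :
    ∃ c ∈ signalizerInf A θ, ∃ S : Sylow q H, (S : Subgroup H).map H.subtype = MulAut.conj c • Q ⊓ H := by
  obtain ⟨S, hS⟩ := Coprime.exists_invariant_sylow (le_normalizer_of_family hH) (coprime_A hA hH.2.1)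
    (Or.inl (isSolvable_A hA)) q
  obtain ⟨Q', hQ', hSQ'⟩ := exists_maxQ_ge (family_of_le hH (Subgroup.map_subtype_le _) hS)
    (S.isPGroup'.map H.subtype)
  obtain ⟨c, hc, rfl⟩ := transitivity hA hA3 hθ hQ hQ'
  refine ⟨c, hc, S, ?_⟩
  have hle : (S : Subgroup H) ≤ (MulAut.conj c • Q ⊓ H).subgroupOf H := fun x hx =>
    ⟨hSQ' (Subgroup.mem_map_of_mem _ hx), x.2⟩
  rw [← S.3 ((hQ'.2.1.to_le inf_le_left).comap_of_injective H.subtype H.subtype_injective) hle]
  exact Subgroup.map_subgroupOf_eq_of_le inf_le_right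

end Cfsg.Agent.Signalizer
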